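import Cfsg.Agent.H436.Krein

/-!
# The symmetric cube of a representation (helper725)

`cuRep ρ` on the symmetric tensors in `V ⊗ (V ⊗ V)`, its character, and the symmetric products `prd a b c`.
-/

set_option autoImplicit false

namespace Cfsg.Agent.H725.BS

open Cfsg Cfsg.Agent.Characters.Core Module Cfsg.Agent.PermChar.SymAlt Cfsg.Agent.PermChar.TensorSquare
open scoped BigOperators TensorProduct

universe u v

section Cube

variable {V : Type*} [AddCommGroup V] [Module ℂ V]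

/-- The threefold tensor power. -/
abbrev T3 (V : Type*) [AddCommGroup V] [Module ℂ V] : Type _ := V ⊗[ℂ] (V ⊗[ℂ] V)

/-- exchange of the last two factors -/
noncomputable def sa (V : Type*) [AddCommGroup V] [Module ℂ V] : Module.End ℂ (T3 V) :=
  TensorProduct.map (1 : Module.End ℂ V) (swap V)

/-- exchange of the first two factors -/
noncomputable def sb (V : Type*) [AddCommGroup V] [Module ℂ V] : Module.End ℂ (T3 V) :=
  (TensorProduct.leftComm ℂ V V V).toLinearMap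

/-- the third power of an endomorphism -/
noncomputable def m3 (f : Module.End ℂ V) : Module.End ℂ (T3 V) := TensorProduct.map f (TensorProduct.map f f)

theorem sa_tmul (a b c : V) : sa V (a ⊗ₜ[ℂ] (b ⊗ₜ[ℂ] c)) = a ⊗ₜ[ℂ] (c ⊗ₜ[ℂ] b) := rfl

theorem sb_tmul (a b c : V) : sb V (a ⊗ₜ[ℂ] (b ⊗ₜ[ℂ] c)) = b ⊗ₜ[ℂ] (a ⊗ₜ[ℂ] c) := rfl

theorem m3_tmul (f : Module.End ℂ V) (a b c : V) :
    m3 f (a ⊗ₜ[ℂ] (b ⊗ₜ[ℂ] c)) = f a ⊗ₜ[ℂ] (f b ⊗ₜ[ℂ] f c) := rfl

theorem ext3 {U : Type*} [AddCommGroup U] [Module ℂ U] {f g : T3 V →ₗ[ℂ] U}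
    (h : ∀ a b c : V, f (a ⊗ₜ[ℂ] (b ⊗ₜ[ℂ] c)) = g (a ⊗ₜ[ℂ] (b ⊗ₜ[ℂ] c))) : f = g := by
  apply TensorProduct.ext
  apply LinearMap.ext
  intro a
  apply TensorProduct.ext
  apply LinearMap.ext
  intro b
  apply LinearMap.ext
  intro c
  exact h a b c

theorem sa_sa : sa V * sa V = 1 := ext3 fun _ _ _ => rfl

theorem sb_sb : sb V * sb V = 1 := ext3 fun _ _ _ => rfl

theorem braid : sb V * (sa V * sb V) = sa V * (sb V * sa V) := ext3 fun _ _ _ => rfl

theorem sa_m3 (f : Module.End ℂ V) : sa V * m3 f = m3 f * sa V := ext3 fun _ _ _ => rfl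

theorem sb_m3 (f : Module.End ℂ V) : sb V * m3 f = m3 f * sb V := ext3 fun _ _ _ => rfl

/-- The symmetrizer. -/
noncomputable def pr (V : Type*) [AddCommGroup V] [Module ℂ V] : Module.End ℂ (T3 V) :=
  (6 : ℂ)⁻¹ • (1 + sa V + sb V + sa V * sb V + sb V * sa V + sa V * (sb V * sa V))

theorem pr_tmul (a b c : V) : pr V (a ⊗ₜ[ℂ] (b ⊗ₜ[ℂ] c)) = (6 : ℂ)⁻¹ • (a ⊗ₜ[ℂ] (b ⊗ₜ[ℂ] c) +
    a ⊗ₜ[ℂ] (c ⊗ₜ[ℂ] b) + b ⊗ₜ[ℂ] (a ⊗ₜ[ℂ] c) + b ⊗ₜ[ℂ] (c ⊗ₜ[ℂ] a) + c ⊗ₜ[ℂ] (a ⊗ₜ[ℂ] b) +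
    c ⊗ₜ[ℂ] (b ⊗ₜ[ℂ] a)) := rfl

theorem sa_pr : sa V * pr V = pr V := by
  apply ext3
  intro a b c
  rw [Module.End.mul_apply, pr_tmul, map_smul]
  simp only [map_add, sa_tmul]
  congr 1
  abel

theorem sb_pr : sb V * pr V = pr V := by
  apply ext3
  intro a b c
  rw [Module.End.mul_apply, pr_tmul, map_smul]
  simp only [map_add, sb_tmul]
  congr 1
  abel

theorem pr_mul {q : Module.End ℂ (T3 V)} (ha : sa V * q = q) (hb : sb V * q = q) : pr V * q = q := by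
  rw [pr, smul_mul_assoc, add_mul, add_mul, add_mul, add_mul, add_mul, one_mul, mul_assoc (sa V) (sb V) q,
    mul_assoc (sb V) (sa V) q, mul_assoc (sa V) (sb V * sa V) q, mul_assoc (sb V) (sa V) q]
  simp only [ha, hb]
  module

theorem pr_pr : pr V * pr V = pr V := pr_mul sa_pr sb_pr

theorem pr_m3 (f : Module.End ℂ V) : m3 f * pr V = pr V * m3 f := by
  apply ext3
  intro a b c
  rw [Module.End.mul_apply, Module.End.mul_apply, pr_tmul, map_smul, m3_tmul, pr_tmul]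
  simp only [map_add, m3_tmul]

section trace

variable [FiniteDimensional ℂ V]

theorem trace_m3 (f : Module.End ℂ V) : LinearMap.trace ℂ _ (m3 f) = LinearMap.trace ℂ V f ^ 3 := by
  rw [m3, LinearMap.trace_tensorProduct', LinearMap.trace_tensorProduct']
  ring

theorem trace_m3_sa (f : Module.End ℂ V) :
    LinearMap.trace ℂ _ (m3 f * sa V) = LinearMap.trace ℂ V f * LinearMap.trace ℂ V (f * f) := by
  have h : m3 f * sa V = TensorProduct.map f (TensorProduct.map f f * swap V) := ext3 fun _ _ _ => rfl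
  rw [h, LinearMap.trace_tensorProduct', trace_map_swap]

theorem trace_m3_sb (f : Module.End ℂ V) :
    LinearMap.trace ℂ _ (m3 f * sb V) = LinearMap.trace ℂ V f * LinearMap.trace ℂ V (f * f) := by
  rw [← trace_m3_sa]
  have h : m3 f * sb V = (m3 f * (sa V * (sb V * sa V))) * (sb V * sa V) := ext3 fun _ _ _ => rfl
  have h' : (sb V * sa V) * (m3 f * (sa V * (sb V * sa V))) = m3 f * sa V := ext3 fun _ _ _ => rfl
  rw [h, LinearMap.trace_mul_comm, h']

theorem trace_m3_sc (f : Module.End ℂ V) :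
    LinearMap.trace ℂ _ (m3 f * (sa V * (sb V * sa V))) = LinearMap.trace ℂ V f * LinearMap.trace ℂ V (f * f) := by
  rw [← trace_m3_sb]
  have h : m3 f * (sa V * (sb V * sa V)) = (m3 f * (sa V * sb V)) * sa V := ext3 fun _ _ _ => rfl
  have h' : sa V * (m3 f * (sa V * sb V)) = m3 f * sb V := ext3 fun _ _ _ => rfl
  rw [h, LinearMap.trace_mul_comm, h']

theorem trace_m3_ab (f : Module.End ℂ V) :
    LinearMap.trace ℂ _ (m3 f * (sa V * sb V)) = LinearMap.trace ℂ V (f * (f * f)) := by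
  classical
  let b := Module.finBasis ℂ V
  rw [LinearMap.trace_eq_matrix_trace ℂ (b.tensorProduct (b.tensorProduct b)),
    LinearMap.trace_eq_matrix_trace ℂ b]
  have h0 : LinearMap.toMatrix b b (f * (f * f)) =
      LinearMap.toMatrix b b f * (LinearMap.toMatrix b b f * LinearMap.toMatrix b b f) := by
    rw [LinearMap.toMatrix_mul, LinearMap.toMatrix_mul]
  rw [h0]
  simp only [Matrix.trace, Matrix.diag_apply, Fintype.sum_prod_type, Matrix.mul_apply, Finset.mul_sum]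
  refine Finset.sum_congr rfl fun i _ => Finset.sum_congr rfl fun j _ => Finset.sum_congr rfl fun k _ => ?_
  rw [LinearMap.toMatrix_apply, LinearMap.toMatrix_apply, LinearMap.toMatrix_apply, LinearMap.toMatrix_apply]
  rw [Module.Basis.tensorProduct_apply, Module.Basis.tensorProduct_apply]
  show ((b.tensorProduct (b.tensorProduct b)).repr (f (b j) ⊗ₜ (f (b k) ⊗ₜ f (b i)))) (i, (j, k)) = _
  rw [Module.Basis.tensorProduct_repr_tmul_apply, Module.Basis.tensorProduct_repr_tmul_apply, smul_eq_mul,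
    smul_eq_mul]
  ring

theorem trace_m3_ba (f : Module.End ℂ V) :
    LinearMap.trace ℂ _ (m3 f * (sb V * sa V)) = LinearMap.trace ℂ V (f * (f * f)) := by
  rw [← trace_m3_ab]
  have h : m3 f * (sb V * sa V) = (m3 f * sb V) * sa V := ext3 fun _ _ _ => rfl
  have h' : sa V * (m3 f * sb V) = m3 f * (sa V * sb V) := ext3 fun _ _ _ => rfl
  rw [h, LinearMap.trace_mul_comm, h']

theorem trace_m3_pr (f : Module.End ℂ V) : LinearMap.trace ℂ _ (m3 f * pr V) =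
    (LinearMap.trace ℂ V f ^ 3 + 3 * LinearMap.trace ℂ V f * LinearMap.trace ℂ V (f * f) +
      2 * LinearMap.trace ℂ V (f * (f * f))) / 6 := by
  rw [pr, mul_smul_comm, mul_add, mul_add, mul_add, mul_add, mul_add, mul_one, map_smul, map_add, map_add, map_add,
    map_add, map_add, trace_m3, trace_m3_sa, trace_m3_sb, trace_m3_ab, trace_m3_ba, trace_m3_sc, smul_eq_mul]
  ring

end trace

/-- the symmetric tensors -/
noncomputable abbrev Cu (V : Type*) [AddCommGroup V] [Module ℂ V] : Submodule ℂ (T3 V) := LinearMap.range (pr V)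

theorem pr_cu {x : T3 V} (hx : x ∈ Cu V) : pr V x = x := by
  obtain ⟨y, rfl⟩ := hx
  rw [← Module.End.mul_apply, pr_pr]

theorem m3_cu (f : Module.End ℂ V) {w : T3 V} (hw : w ∈ Cu V) : m3 f w ∈ Cu V := by
  obtain ⟨x, rfl⟩ := hw
  refine ⟨m3 f x, ?_⟩
  rw [← Module.End.mul_apply, ← Module.End.mul_apply, pr_m3]

theorem m3_one : m3 (1 : Module.End ℂ V) = 1 := ext3 fun _ _ _ => rfl

theorem m3_mul (f g : Module.End ℂ V) : m3 (f * g) = m3 f * m3 g := ext3 fun _ _ _ => rfl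

variable {G : Type u} [Group G]

/-- the symmetric cube of a representation -/
noncomputable def cuRep (ρ : Representation ℂ G V) : Representation ℂ G (Cu V) where
  toFun g := (m3 (ρ g)).restrict fun _ hw => m3_cu (ρ g) hw
  map_one' := by
    apply LinearMap.ext
    intro w
    apply Subtype.ext
    show m3 (ρ 1) (w : T3 V) = w
    rw [map_one, m3_one]
    rfl
  map_mul' g h := by
    apply LinearMap.ext
    intro w
    apply Subtype.ext
    show m3 (ρ (g * h)) (w : T3 V) = m3 (ρ g) (m3 (ρ h) (w : T3 V))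
    rw [map_mul, m3_mul]
    rfl

theorem cuRep_val (ρ : Representation ℂ G V) (g : G) (w : Cu V) :
    ((cuRep ρ g w : Cu V) : T3 V) = m3 (ρ g) (w : T3 V) := rfl

theorem char_cuRep [FiniteDimensional ℂ V] (ρ : Representation ℂ G V) (g : G) :
    (cuRep ρ).character g = (ρ.character g ^ 3 + 3 * ρ.character g * ρ.character (g * g) +
      2 * ρ.character (g * (g * g))) / 6 := by
  have hmem : ∀ x, (m3 (ρ g) * pr V) x ∈ Cu V := by
    intro x
    rw [Module.End.mul_apply]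
    exact m3_cu (ρ g) ⟨x, rfl⟩
  have h1 : cuRep ρ g = (m3 (ρ g) * pr V).restrict (fun v _ => hmem v) := by
    apply LinearMap.ext
    intro w
    apply Subtype.ext
    show m3 (ρ g) (w : T3 V) = m3 (ρ g) (pr V (w : T3 V))
    rw [pr_cu w.2]
  show LinearMap.trace ℂ (Cu V) (cuRep ρ g) = _
  rw [h1, trace_restrict, trace_m3_pr, ← map_mul ρ, ← map_mul ρ]
  rfl

/-- the symmetric product of three vectors -/
noncomputable def prd (a b c : V) : Cu V := ⟨pr V (a ⊗ₜ[ℂ] (b ⊗ₜ[ℂ] c)), _, rfl⟩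

theorem cuRep_prd (ρ : Representation ℂ G V) (g : G) (a b c : V) :
    cuRep ρ g (prd a b c) = prd (ρ g a) (ρ g b) (ρ g c) := by
  apply Subtype.ext
  rw [cuRep_val]
  show m3 (ρ g) (pr V (a ⊗ₜ[ℂ] (b ⊗ₜ[ℂ] c))) = pr V (m3 (ρ g) (a ⊗ₜ[ℂ] (b ⊗ₜ[ℂ] c)))
  rw [← Module.End.mul_apply, pr_m3, Module.End.mul_apply]

/-- The trilinear functional `φ₁ φ₂ φ₃` on symmetric tensors. -/
noncomputable def fn (φ₁ φ₂ φ₃ : V →ₗ[ℂ] ℂ) : Cu V →ₗ[ℂ] ℂ :=
  (TensorProduct.lift ((LinearMap.mul ℂ ℂ).compl₁₂ φ₁ (TensorProduct.lift ((LinearMap.mul ℂ ℂ).compl₁₂ φ₂ φ₃)))).comp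
    (Cu V).subtype

theorem fn_prd (φ₁ φ₂ φ₃ : V →ₗ[ℂ] ℂ) (a b c : V) : fn φ₁ φ₂ φ₃ (prd a b c) =
    (φ₁ a * (φ₂ b * φ₃ c) + φ₁ a * (φ₂ c * φ₃ b) + φ₁ b * (φ₂ a * φ₃ c) + φ₁ b * (φ₂ c * φ₃ a) +
      φ₁ c * (φ₂ a * φ₃ b) + φ₁ c * (φ₂ b * φ₃ a)) / 6 := by
  show (TensorProduct.lift ((LinearMap.mul ℂ ℂ).compl₁₂ φ₁ (TensorProduct.lift
    ((LinearMap.mul ℂ ℂ).compl₁₂ φ₂ φ₃)))) (pr V (a ⊗ₜ[ℂ] (b ⊗ₜ[ℂ] c))) = _
  rw [pr_tmul, map_smul]
  simp only [map_add, TensorProduct.lift.tmul, LinearMap.compl₁₂_apply, LinearMap.mul_apply', smul_eq_mul]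
  ring

end Cube

end Cfsg.Agent.H725.BS
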