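import Cfsg.Agent.H725.BS.Cube

/-!
# Two copies in the symmetric cube (helper725)

`V` the constituent of a permutation representation with spherical function `ω`: `V` occurs twice in `Sym³ V` if a
`2 × 2` determinant of the intersection numbers is not zero.
The two invariants of `Sym³ V ⊗ V` are `∑ y, a_y³ ⊗ a_y` and `∑ y z, a_y² a_z ⊗ a_z`.
-/

set_option autoImplicit false

namespace Cfsg.Agent.H725.BS

open Cfsg Cfsg.Agent.Characters.Core Module
open scoped BigOperators TensorProduct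

universe u v

/-- two independent invariant vectors -/
theorem two_le_of_det {G : Type u} [Group G] [Fintype G] {U : Type*} [AddCommGroup U] [Module ℂ U]
    [FiniteDimensional ℂ U] (τ : Representation ℂ G U) {t₁ t₂ : U} (h1 : ∀ g : G, τ g t₁ = t₁)
    (h2 : ∀ g : G, τ g t₂ = t₂) (μ₁ μ₂ : U →ₗ[ℂ] ℂ) (hd : μ₁ t₁ * μ₂ t₂ - μ₁ t₂ * μ₂ t₁ ≠ 0) :
    ∃ n : ℕ, 2 ≤ n ∧ ∑ g : G, τ.character g = n * (Nat.card G : ℂ) := by
  have hcard : (Nat.card G : ℂ) ≠ 0 := by exact_mod_cast (Nat.card_pos (α := G)).ne'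
  let _ : Invertible (Nat.card G : ℂ) := invertibleOfNonzero hcard
  have h3 := Representation.card_inv_mul_sum_char_eq_finrank τ
  refine ⟨finrank ℂ τ.invariants, ?_, ?_⟩
  · let v : Fin 2 → τ.invariants := ![⟨t₁, (Representation.mem_invariants _ _).2 h1⟩,
      ⟨t₂, (Representation.mem_invariants _ _).2 h2⟩]
    have hv : LinearIndependent ℂ v := by
      rw [LinearIndependent.pair_iff]
      intro s r h
      have h4 : s • t₁ + r • t₂ = 0 := congrArg Subtype.val h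
      have e1 : s * μ₁ t₁ + r * μ₁ t₂ = 0 := by
        have := congrArg μ₁ h4
        simpa only [map_add, map_smul, smul_eq_mul, map_zero] using this
      have e2 : s * μ₂ t₁ + r * μ₂ t₂ = 0 := by
        have := congrArg μ₂ h4
        simpa only [map_add, map_smul, smul_eq_mul, map_zero] using this
      have e3 : s * (μ₁ t₁ * μ₂ t₂ - μ₁ t₂ * μ₂ t₁) = 0 := by linear_combination μ₂ t₂ * e1 - μ₁ t₂ * e2
      have e4 : r * (μ₁ t₁ * μ₂ t₂ - μ₁ t₂ * μ₂ t₁) = 0 := by linear_combination μ₁ t₁ * e2 - μ₂ t₁ * e1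
      exact ⟨(mul_eq_zero.1 e3).resolve_right hd, (mul_eq_zero.1 e4).resolve_right hd⟩
    have := hv.fintype_card_le_finrank
    simpa using this
  · rw [← h3, mul_comm, ← mul_assoc, mul_inv_cancel₀ hcard, one_mul]

/-- **Two invariants of `Sym³ V ⊗ V`.** -/
theorem two_le {G : Type u} [Group G] [Fintype G] {V : Type*} [AddCommGroup V] [Module ℂ V]
    [FiniteDimensional ℂ V] (ρ : Representation ℂ G V) {X : Type v} [Fintype X] [MulAction G X] (a : X → V)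
    (ha : ∀ (g : G) (y : X), ρ g (a y) = a (g • y)) (φ₀ φ₁ : V →ₗ[ℂ] ℂ)
    (hne : (∑ y : X, φ₀ (a y) ^ 4) *
        (((∑ y : X, φ₀ (a y) ^ 2) * (∑ y : X, φ₁ (a y) ^ 2) + 2 * (∑ y : X, φ₀ (a y) * φ₁ (a y)) ^ 2) / 3) -
      (∑ y : X, φ₀ (a y) ^ 2) ^ 2 * (∑ y : X, φ₀ (a y) ^ 2 * φ₁ (a y) ^ 2) ≠ 0) :
    ∃ n : ℕ, 2 ≤ n ∧ ∑ g : G, (ρ.character g ^ 3 + 3 * ρ.character g * ρ.character (g * g) +
      2 * ρ.character (g * (g * g))) / 6 * ρ.character g = n * (Nat.card G : ℂ) := by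
  let τ : Representation ℂ G (Cu V ⊗[ℂ] V) := Representation.tprod (cuRep ρ) ρ
  have h3 : Representation.character (V := Cu V ⊗[ℂ] V) τ = (cuRep ρ).character * ρ.character :=
    Representation.char_tensor (cuRep ρ) ρ
  let t₁ : Cu V ⊗[ℂ] V := ∑ y : X, prd (a y) (a y) (a y) ⊗ₜ[ℂ] a y
  let t₂ : Cu V ⊗[ℂ] V := ∑ y : X, ∑ z : X, prd (a y) (a y) (a z) ⊗ₜ[ℂ] a z
  have ht₁ : ∀ g : G, τ g t₁ = t₁ := by
    intro g
    rw [map_sum]
    refine Fintype.sum_equiv (MulAction.toPerm g) _ _ fun y => ?_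
    show Representation.tprod (cuRep ρ) ρ g (prd (a y) (a y) (a y) ⊗ₜ[ℂ] a y) = _
    rw [Representation.tprod_apply, TensorProduct.map_tmul, cuRep_prd, ha]
    rfl
  have ht₂ : ∀ g : G, τ g t₂ = t₂ := by
    intro g
    rw [map_sum]
    refine Fintype.sum_equiv (MulAction.toPerm g) _ _ fun y => ?_
    rw [map_sum]
    refine Fintype.sum_equiv (MulAction.toPerm g) _ _ fun z => ?_
    show Representation.tprod (cuRep ρ) ρ g (prd (a y) (a y) (a z) ⊗ₜ[ℂ] a z) = _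
    rw [Representation.tprod_apply, TensorProduct.map_tmul, cuRep_prd, ha, ha]
    rfl
  let μ (φ : V →ₗ[ℂ] ℂ) : Cu V ⊗[ℂ] V →ₗ[ℂ] ℂ :=
    TensorProduct.lift ((LinearMap.mul ℂ ℂ).compl₁₂ (fn φ₀ φ₀ φ) φ)
  have hμ : ∀ (φ : V →ₗ[ℂ] ℂ) (w : Cu V) (v : V), μ φ (w ⊗ₜ[ℂ] v) = fn φ₀ φ₀ φ w * φ v := fun φ w v => rfl
  have e11 : μ φ₀ t₁ = ∑ y : X, φ₀ (a y) ^ 4 := by
    rw [map_sum]
    refine Finset.sum_congr rfl fun y _ => ?_
    rw [hμ, fn_prd]
    ring
  have e21 : μ φ₁ t₁ = ∑ y : X, φ₀ (a y) ^ 2 * φ₁ (a y) ^ 2 := by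
    rw [map_sum]
    refine Finset.sum_congr rfl fun y _ => ?_
    rw [hμ, fn_prd]
    ring
  have e12 : μ φ₀ t₂ = (∑ y : X, φ₀ (a y) ^ 2) ^ 2 := by
    rw [map_sum, sq, Finset.sum_mul]
    refine Finset.sum_congr rfl fun y _ => ?_
    rw [map_sum, Finset.mul_sum]
    refine Finset.sum_congr rfl fun z _ => ?_
    rw [hμ, fn_prd]
    ring
  have e22 : μ φ₁ t₂ = ((∑ y : X, φ₀ (a y) ^ 2) * (∑ y : X, φ₁ (a y) ^ 2) +
      2 * (∑ y : X, φ₀ (a y) * φ₁ (a y)) ^ 2) / 3 := by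
    rw [map_sum, sq (∑ y : X, φ₀ (a y) * φ₁ (a y)), Finset.sum_mul, Finset.sum_mul, Finset.mul_sum,
      ← Finset.sum_add_distrib, Finset.sum_div]
    refine Finset.sum_congr rfl fun y _ => ?_
    rw [map_sum, Finset.mul_sum, Finset.mul_sum, Finset.mul_sum, ← Finset.sum_add_distrib, Finset.sum_div]
    refine Finset.sum_congr rfl fun z _ => ?_
    rw [hμ, fn_prd]
    ring
  have h6 := two_le_of_det (U := Cu V ⊗[ℂ] V) τ ht₁ ht₂ (μ φ₀) (μ φ₁) (by
    rw [e11, e22, e12, e21]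
    exact hne)
  rw [h3] at h6
  simpa only [Pi.mul_apply, char_cuRep] using h6

variable {G : Type u} [Group G] {X : Type v} [MulAction G X] {ι : Type} [Fintype ι] [DecidableEq ι]
variable {c : X → X → ι} {o : ι}

open Cfsg.Agent.H816.IMEig Cfsg.Agent.H816.IMEig.Col

/-- a sum over the points by the two colours -/
theorem sum_tt [Fintype X] {x₀ z₀ : X} (f : ι → ι → ℂ) :
    ∑ y : X, f (c x₀ y) (c z₀ y) = ∑ u, ∑ w, (tt c x₀ z₀ u w : ℂ) * f u w := by
  classical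
  have h5 : ∀ u w, (tt c x₀ z₀ u w : ℂ) * f u w = ∑ y, if c x₀ y = u ∧ c z₀ y = w then f u w else 0 := by
    intro u w
    rw [← Finset.sum_filter, Finset.sum_const, nsmul_eq_mul]
    congr 1
    unfold tt
    rw [Nat.card_eq_fintype_card, Fintype.card_subtype]
  simp only [h5]
  have h6 : ∀ u, ∑ w, ∑ y, (if c x₀ y = u ∧ c z₀ y = w then f u w else 0) =
      ∑ y, if c x₀ y = u then f u (c z₀ y) else 0 := by
    intro u
    rw [Finset.sum_comm]
    refine Finset.sum_congr rfl fun y _ => ?_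
    rw [Finset.sum_eq_single (c z₀ y)]
    · by_cases hu : c x₀ y = u
      · rw [if_pos hu, if_pos ⟨hu, rfl⟩]
      · rw [if_neg hu, if_neg fun h => hu h.1]
    · intro w _ hw
      rw [if_neg fun h => hw h.2.symm]
    · intro h; exact absurd (Finset.mem_univ _) h
  simp only [h6]
  rw [Finset.sum_comm]
  refine Finset.sum_congr rfl fun y _ => ?_
  rw [Finset.sum_ite_eq]
  simp

/-- **The constituent `V` with spherical function `ω` occurs twice in `Sym³ V`** if the determinant of the intersection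
numbers `t` is not zero (`A = ∑ k ω⁴`, `S = ∑ k ω²`, `P = ∑ t ω ω`, `B = ∑ t ω² ω²`). -/
theorem two_le_symCube [Fintype G] [Fintype X] [DecidableEq X] (h : Col G X ι c o) {x₀ z₀ : X}
    {t : ι → ι → ℕ} (ht : ∀ u w, tt c x₀ z₀ u w = t u w) {ω : ι → ℂ}
    (hne : (∑ u, ∑ w, (t u w : ℂ) * ω u ^ 4) *
        (((∑ u, ∑ w, (t u w : ℂ) * ω u ^ 2) * (∑ u, ∑ w, (t u w : ℂ) * ω w ^ 2) +
          2 * (∑ u, ∑ w, (t u w : ℂ) * (ω u * ω w)) ^ 2) / 3) -
      (∑ u, ∑ w, (t u w : ℂ) * ω u ^ 2) ^ 2 * (∑ u, ∑ w, (t u w : ℂ) * (ω u ^ 2 * ω w ^ 2)) ≠ 0) :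
    ∃ n : ℕ, 2 ≤ n ∧ ∑ g : G, ((h.sub ω).toRepresentation.character g ^ 3 +
      3 * (h.sub ω).toRepresentation.character g * (h.sub ω).toRepresentation.character (g * g) +
      2 * (h.sub ω).toRepresentation.character (g * (g * g))) / 6 * (h.sub ω).toRepresentation.character g =
        n * (Nat.card G : ℂ) := by
  classical
  refine two_le (h.sub ω).toRepresentation
    (fun y => (⟨ee c ω y, Submodule.subset_span ⟨y, rfl⟩⟩ : (h.sub ω).toSubmodule)) ?_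
    ((LinearMap.proj x₀).comp (h.sub ω).toSubmodule.subtype)
    ((LinearMap.proj z₀).comp (h.sub ω).toSubmodule.subtype) ?_
  · intro g y
    exact Subtype.ext (h.prep_ee ω g y)
  · have e1 := sum_tt (c := c) (x₀ := x₀) (z₀ := z₀) fun u _ => ω u ^ 4
    have e2 := sum_tt (c := c) (x₀ := x₀) (z₀ := z₀) fun u _ => ω u ^ 2
    have e3 := sum_tt (c := c) (x₀ := x₀) (z₀ := z₀) fun _ w => ω w ^ 2
    have e4 := sum_tt (c := c) (x₀ := x₀) (z₀ := z₀) fun u w => ω u * ω w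
    have e5 := sum_tt (c := c) (x₀ := x₀) (z₀ := z₀) fun u w => ω u ^ 2 * ω w ^ 2
    simp only [ht] at e1 e2 e3 e4 e5
    rw [← e1, ← e2, ← e3, ← e4, ← e5] at hne
    exact hne

end Cfsg.Agent.H725.BS
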